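import Mathlib

/-!
Simplicity of a finite group from a simple subgroup (owner: helper66).
-/

set_option autoImplicit false
set_option linter.all false

namespace Cfsg.Agent.KMat

open MulAction

open scoped Pointwise

section

variable {G : Type*} [Group G]

/-- coprime action of an element of prime order `q` on a group whose prime powers have the arithmetic property -/
theorem fixes_of_arith {K : Type*} [Group K] [Finite K] {q : ℕ} [hq : Fact q.Prime] {α : Type*} [Group α]
    [MulDistribMulAction α K] (hα : IsPGroup q α) [Finite α] {n : ℕ} (hK : Nat.card K ∣ n) (hn : ¬ q ∣ n) (hn0 : n ≠ 0)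
    (har : ∀ r a b : ℕ, r.Prime → r ^ a ∣ n → b ≤ a → r ^ b ≡ r ^ a [MOD q] → b = a) (k : K) (x : α) : x • k = k := by
  -- the subgroup of fixed points
  let F : Subgroup K :=
    { carrier := {k | ∀ x : α, x • k = k}
      mul_mem' := fun {a b} ha hb x => by rw [smul_mul', ha x, hb x]
      one_mem' := fun x => smul_one x
      inv_mem' := fun {a} ha x => by rw [smul_inv', ha x] }
  suffices h : F = ⊤ by
    have h1 : k ∈ F := by rw [h]; exact Subgroup.mem_top k
    exact h1 x
  apply Subgroup.eq_top_of_card_eq
  apply Nat.dvd_antisymm (Subgroup.card_subgroup_dvd_card F)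
  rw [Nat.dvd_iff_prime_pow_dvd_dvd]
  intro r a hr hra
  haveI : Fact r.Prime := ⟨hr⟩
  -- an invariant Sylow subgroup
  have h1 : ¬ q ∣ Nat.card (Sylow r K) := by
    intro h
    obtain ⟨P⟩ := (inferInstance : Nonempty (Sylow r K))
    have h2 := P.card_dvd_index
    exact hn (h.trans (h2.trans ((Subgroup.index_dvd_card _).trans hK)))
  obtain ⟨P, hP⟩ := hα.nonempty_fixed_point_of_prime_not_dvd_card (Sylow r K) h1
  have hP' : ∀ x : α, x • (P : Subgroup K) = P := fun x => by
    have h3 := hP x
    rw [← Sylow.pointwise_smul_def, h3]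
  have hmem : ∀ (x : α) (y : K), y ∈ (P : Subgroup K) → x • y ∈ (P : Subgroup K) := by
    intro x y hy
    have h3 := Subgroup.smul_mem_pointwise_smul y x (P : Subgroup K) hy
    rwa [hP' x] at h3
  letI A : MulAction α (P : Subgroup K) :=
    { smul := fun x y => ⟨x • (y : K), hmem x y y.2⟩
      one_smul := fun y => Subtype.ext (one_smul α (y : K))
      mul_smul := fun x y z => Subtype.ext (mul_smul x y (z : K)) }
  have hA : ∀ (x : α) (y : (P : Subgroup K)), ((x • y : (P : Subgroup K)) : K) = x • (y : K) := fun _ _ => rfl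
  have h4 := hα.card_modEq_card_fixedPoints (P : Subgroup K)
  obtain ⟨m, hm⟩ := IsPGroup.iff_card.1 P.isPGroup'
  have h5 : Nat.card (fixedPoints α (P : Subgroup K)) = Nat.card ((F ⊓ (P : Subgroup K) : Subgroup K)) := by
    apply Nat.card_congr
    refine ⟨fun z => ⟨(z : (P : Subgroup K)), ?_, (z : (P : Subgroup K)).2⟩, fun z => ⟨⟨z, z.2.2⟩, ?_⟩, fun _ => rfl, fun _ => rfl⟩
    · intro x
      have := z.2 x
      rw [← hA, this]
    · intro x
      exact Subtype.ext (z.2.1 x)
  have hfp : IsPGroup r ((F ⊓ (P : Subgroup K) : Subgroup K)) := P.isPGroup'.to_le inf_le_right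
  obtain ⟨l, hl⟩ := IsPGroup.iff_card.1 hfp
  have h6 : r ^ l ∣ r ^ m := by
    rw [← hl, ← hm]
    exact Subgroup.card_dvd_of_le inf_le_right
  have h7 : l ≤ m := (Nat.pow_dvd_pow_iff_le_right hr.one_lt).1 h6
  have h8 : r ^ m ∣ n := by
    rw [← hm]
    exact (Subgroup.card_subgroup_dvd_card _).trans hK
  rw [h5, hl, hm] at h4
  have h9 := har r m l hr h8 h7 h4.symm
  have h10 : r ^ m ∣ Nat.card F := by
    rw [← h9, ← hl]
    exact Subgroup.card_dvd_of_le inf_le_left
  refine dvd_trans ?_ h10
  have h11 : r ^ m = r ^ (Nat.card K).factorization r := by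
    rw [← hm, P.card_eq_multiplicity]
  rw [h11]
  exact (Nat.Prime.pow_dvd_iff_dvd_ordProj hr (Nat.card_pos.ne')).1 hra

/-- Simplicity from a simple subgroup. -/
theorem simple_of_sub [Finite G] (H : Subgroup G) (hs : IsSimpleGroup H) {q : ℕ} [Fact q.Prime] (g0 : G) (hg0 : g0 ∈ H)
    (hord : orderOf g0 = q) (hq : ¬ q ∣ H.index)
    (har : ∀ r a b : ℕ, r.Prime → r ^ a ∣ H.index → b ≤ a → r ^ b ≡ r ^ a [MOD q] → b = a)
    (hnc : ∀ N : Subgroup G, N.Normal → H ≤ N → N = ⊤) (hcen : Subgroup.center G ≤ H) : IsSimpleGroup G := by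
  haveI := hs
  have hnt : Nontrivial G := by
    obtain ⟨a, b, hab⟩ := exists_pair_ne H
    exact ⟨a, b, fun h => hab (Subtype.ext h)⟩
  have key : ∀ N : Subgroup G, N.Normal → N ⊓ H = ⊥ ∨ H ≤ N := by
    intro N hN
    rcases (inferInstance : (N.subgroupOf H).Normal).eq_bot_or_eq_top with h | h
    · left
      rw [Subgroup.subgroupOf_eq_bot] at h
      exact h.eq_bot
    · right
      rwa [Subgroup.subgroupOf_eq_top] at h
  have hg1 : g0 ≠ 1 := by
    rintro rfl
    rw [orderOf_one] at hord
    exact (Fact.out : q.Prime).one_lt.ne hord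
  refine ⟨fun K hK => ?_⟩
  rcases key K hK with h | h
  · left
    -- the order of `K` divides the index
    have hdvd : Nat.card K ∣ H.index := by
      have h1 : Nat.card H ∣ K.index := by
        have h2 : Function.Injective ((QuotientGroup.mk' K).comp H.subtype) := by
          rw [injective_iff_map_eq_one]
          intro x hx
          have h3 : (x : G) ∈ K := (QuotientGroup.eq_one_iff (x : G)).1 hx
          have h4 : (x : G) ∈ K ⊓ H := ⟨h3, x.2⟩
          rw [h] at h4
          exact Subtype.ext (Subgroup.mem_bot.1 h4)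
        have h3 := Subgroup.card_range_dvd ((QuotientGroup.mk' K).comp H.subtype)
        have h4 : Nat.card ((QuotientGroup.mk' K).comp H.subtype).range = Nat.card H :=
          (Nat.card_congr (MonoidHom.ofInjective h2).toEquiv).symm
        have h5 := Subgroup.card_subgroup_dvd_card ((QuotientGroup.mk' K).comp H.subtype).range
        rwa [h4] at h5
      have h2 := K.card_mul_index
      have h3 := H.card_mul_index
      obtain ⟨c, hc⟩ := h1
      rw [hc] at h2
      have h4 : Nat.card H * H.index = Nat.card H * (Nat.card K * c) := by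
        rw [h3, ← h2]
        ring
      have h5 := Nat.eq_of_mul_eq_mul_left Nat.card_pos h4
      exact ⟨c, h5⟩
    -- `g0` centralises `K`
    let α : Subgroup G := Subgroup.zpowers g0
    letI M : MulDistribMulAction α K := MulDistribMulAction.compHom K ((MulAut.conjNormal (H := K)).comp α.subtype)
    have hM : ∀ (x : α) (k : K), ((x • k : K) : G) = (x : G) * k * (x : G)⁻¹ := fun x k => by
      show ((MulAut.conjNormal (x : G) k : K) : G) = _
      exact MulAut.conjNormal_apply _ _
    have hα : IsPGroup q α := by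
      apply IsPGroup.of_card (n := 1)
      rw [pow_one, Nat.card_zpowers, hord]
    have hfix := fun (k : K) (x : α) => fixes_of_arith (K := K) hα hdvd hq Subgroup.index_ne_zero_of_finite har k x
    have hcomm : g0 ∈ Subgroup.centralizer (K : Set G) := by
      rw [Subgroup.mem_centralizer_iff]
      intro k hk
      have h1 := congrArg (fun z : K => (z : G)) (hfix ⟨k, hk⟩ ⟨g0, Subgroup.mem_zpowers g0⟩)
      simp only [hM] at h1
      rw [mul_inv_eq_iff_eq_mul] at h1
      exact h1.symm
    have hC : (Subgroup.centralizer (K : Set G)).Normal := inferInstance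
    have hHC : H ≤ Subgroup.centralizer (K : Set G) := by
      rcases key _ hC with h1 | h1
      · exfalso
        have h2 : g0 ∈ Subgroup.centralizer (K : Set G) ⊓ H := ⟨hcomm, hg0⟩
        rw [h1] at h2
        exact hg1 (Subgroup.mem_bot.1 h2)
      · exact h1
    have hCt := hnc _ hC hHC
    have hKc : K ≤ Subgroup.center G := by
      intro k hk
      rw [Subgroup.mem_center_iff]
      intro y
      have h1 : y ∈ Subgroup.centralizer (K : Set G) := by rw [hCt]; exact Subgroup.mem_top y
      exact (Subgroup.mem_centralizer_iff.1 h1 k hk).symm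
    have hKH : K ≤ K ⊓ H := le_inf le_rfl (hKc.trans hcen)
    rw [h] at hKH
    exact le_bot_iff.1 hKH
  · right
    exact hnc K hK h

end

end Cfsg.Agent.KMat
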