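import Mathlib

/-!
Packed numbers: sums of digits times powers of `2 ^ w` (owner: helper66).
-/

set_option autoImplicit false

namespace Cfsg.Agent.KMat

open Finset

/-- packed digits -/
def S (w : ℕ) (f : ℕ → ℕ) (k : ℕ) : ℕ := ∑ i ∈ range k, f i * 2 ^ (w * i)

variable {w : ℕ}

@[simp] theorem S_zero (f : ℕ → ℕ) : S w f 0 = 0 := rfl

theorem S_succ (f : ℕ → ℕ) (k : ℕ) : S w f (k + 1) = f 0 + 2 ^ w * S w (fun i => f (i + 1)) k := by
  rw [S, sum_range_succ', S, mul_sum, add_comm]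
  congr 1
  · simp
  · apply sum_congr rfl
    intro i _
    rw [mul_add, mul_one, pow_add]
    ring

theorem S_top (f : ℕ → ℕ) (k : ℕ) : S w f (k + 1) = S w f k + f k * 2 ^ (w * k) := by
  rw [S, sum_range_succ, S]

theorem S_congr {f g : ℕ → ℕ} {k : ℕ} (h : ∀ i < k, f i = g i) : S w f k = S w g k := by
  unfold S
  exact sum_congr rfl fun i hi => by rw [h i (mem_range.1 hi)]

theorem S_lt {f : ℕ → ℕ} {k : ℕ} (h : ∀ i < k, f i < 2 ^ w) : S w f k < 2 ^ (w * k) := by
  induction k with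
  | zero => simp
  | succ k ih =>
    rw [S_top, mul_add, mul_one, pow_add]
    have h1 := ih fun i hi => h i (by omega)
    have h2 := h k (by omega)
    have h3 : (f k + 1) * 2 ^ (w * k) ≤ 2 ^ w * 2 ^ (w * k) := Nat.mul_le_mul_right _ h2
    rw [add_mul, one_mul] at h3
    rw [mul_comm (2 ^ (w * k))]
    omega

theorem S_div {f : ℕ → ℕ} {k : ℕ} (h : f 0 < 2 ^ w) : S w f (k + 1) / 2 ^ w = S w (fun i => f (i + 1)) k := by
  rw [S_succ, Nat.add_mul_div_left _ _ (by positivity), Nat.div_eq_of_lt h, zero_add]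

theorem S_mod {f : ℕ → ℕ} {k : ℕ} (h : f 0 < 2 ^ w) : S w f (k + 1) % 2 ^ w = f 0 := by
  rw [S_succ, Nat.add_mul_mod_self_left, Nat.mod_eq_of_lt h]

theorem S_shift {f : ℕ → ℕ} {k j : ℕ} (h : ∀ i < k, f i < 2 ^ w) (hj : j ≤ k) :
    S w f k / 2 ^ (w * j) = S w (fun i => f (i + j)) (k - j) := by
  induction j generalizing f k with
  | zero => simp
  | succ j ih =>
    obtain ⟨k, rfl⟩ : ∃ k', k = k' + 1 := ⟨k - 1, by omega⟩
    rw [mul_add, mul_one, pow_add, mul_comm (2 ^ (w * j)), ← Nat.div_div_eq_div_mul, S_div (h 0 (by omega)),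
      ih (fun i hi => h (i + 1) (by omega)) (by omega)]
    rw [Nat.succ_sub_succ]
    apply S_congr
    intro i _
    show f (i + j + 1) = f (i + (j + 1))
    rw [add_assoc]

theorem S_dig {f : ℕ → ℕ} {k j : ℕ} (h : ∀ i < k, f i < 2 ^ w) (hj : j < k) :
    S w f k / 2 ^ (w * j) % 2 ^ w = f j := by
  rw [S_shift h hj.le]
  obtain ⟨m, hm⟩ : ∃ m, k - j = m + 1 := ⟨k - j - 1, by omega⟩
  rw [hm, S_mod (by simpa using h j hj)]
  simp

theorem S_inj {f g : ℕ → ℕ} {k : ℕ} (hf : ∀ i < k, f i < 2 ^ w) (hg : ∀ i < k, g i < 2 ^ w)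
    (h : S w f k = S w g k) : ∀ i < k, f i = g i := by
  intro i hi
  rw [← S_dig hf hi, h, S_dig hg hi]

/-- digits of a number -/
def dig (w x i : ℕ) : ℕ := x / 2 ^ (w * i) % 2 ^ w

theorem dig_lt (x i : ℕ) : dig w x i < 2 ^ w := Nat.mod_lt _ (by positivity)

theorem dig_S {f : ℕ → ℕ} {k j : ℕ} (h : ∀ i < k, f i < 2 ^ w) (hj : j < k) : dig w (S w f k) j = f j := S_dig h hj

theorem S_of_lt {x k : ℕ} (h : x < 2 ^ (w * k)) : S w (dig w x) k = x := by
  induction k generalizing x with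
  | zero => simp at h; simp [h]
  | succ k ih =>
    rw [S_succ]
    have h1 : S w (fun i => dig w x (i + 1)) k = S w (dig w (x / 2 ^ w)) k := by
      apply S_congr
      intro i _
      unfold dig
      rw [mul_add, mul_one, pow_add, mul_comm (2 ^ (w * i)), ← Nat.div_div_eq_div_mul]
    rw [h1, ih]
    · unfold dig
      simp [Nat.mod_add_div]
    · rw [Nat.div_lt_iff_lt_mul (by positivity), ← pow_add]
      rwa [mul_add, mul_one] at h

theorem and_step {a b x y : ℕ} (ha : a < 2 ^ w) (hb : b < 2 ^ w) :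
    (a + 2 ^ w * x) &&& (b + 2 ^ w * y) = (a &&& b) + 2 ^ w * (x &&& y) := by
  apply Nat.eq_of_testBit_eq
  intro i
  have hab : a &&& b < 2 ^ w := lt_of_le_of_lt Nat.and_le_left ha
  rw [Nat.testBit_and, add_comm a, add_comm b, add_comm (a &&& b), Nat.testBit_two_pow_mul_add x ha i,
    Nat.testBit_two_pow_mul_add y hb i, Nat.testBit_two_pow_mul_add _ hab i]
  split <;> simp

theorem S_and {f g : ℕ → ℕ} {k : ℕ} (hf : ∀ i < k, f i < 2 ^ w) (hg : ∀ i < k, g i < 2 ^ w) :
    S w f k &&& S w g k = S w (fun i => f i &&& g i) k := by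
  induction k generalizing f g with
  | zero => simp
  | succ k ih =>
    rw [S_succ, S_succ, S_succ, and_step (hf 0 (by omega)) (hg 0 (by omega)),
      ih (fun i hi => hf (i + 1) (by omega)) (fun i hi => hg (i + 1) (by omega))]

theorem S_add (f g : ℕ → ℕ) (k : ℕ) : S w f k + S w g k = S w (fun i => f i + g i) k := by
  unfold S
  rw [← sum_add_distrib]
  exact sum_congr rfl fun i _ => by ring

theorem S_mul (c : ℕ) (f : ℕ → ℕ) (k : ℕ) : c * S w f k = S w (fun i => c * f i) k := by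
  unfold S
  rw [mul_sum]
  exact sum_congr rfl fun i _ => by ring

theorem S_sub {f g : ℕ → ℕ} {k : ℕ} (h : ∀ i < k, g i ≤ f i) : S w f k - S w g k = S w (fun i => f i - g i) k := by
  have h1 : S w (fun i => f i - g i) k + S w g k = S w f k := by
    rw [S_add]
    exact S_congr fun i hi => Nat.sub_add_cancel (h i hi)
  omega

theorem S_ext {f : ℕ → ℕ} {k m : ℕ} (hk : k ≤ m) (h : ∀ i, k ≤ i → i < m → f i = 0) : S w f m = S w f k := by
  induction m, hk using Nat.le_induction with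
  | base => rfl
  | succ m hm ih =>
    rw [S_top, h m hm (by omega), zero_mul, add_zero]
    exact ih fun i h1 h2 => h i h1 (by omega)

/-- coefficients of a product -/
def conv (f : ℕ → ℕ) (a : ℕ) (g : ℕ → ℕ) (b q : ℕ) : ℕ :=
  ∑ i ∈ range a, if i ≤ q ∧ q - i < b then f i * g (q - i) else 0

theorem S_conv (f : ℕ → ℕ) (a : ℕ) (g : ℕ → ℕ) (b : ℕ) :
    S w f a * S w g b = S w (conv f a g b) (a + b) := by
  unfold S conv
  rw [sum_mul_sum]
  have h1 : ∀ q, (∑ i ∈ range a, if i ≤ q ∧ q - i < b then f i * g (q - i) else 0) * 2 ^ (w * q) =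
      ∑ i ∈ range a, if i ≤ q ∧ q - i < b then f i * g (q - i) * 2 ^ (w * q) else 0 := by
    intro q
    rw [sum_mul]
    exact sum_congr rfl fun i _ => by split <;> simp
  simp_rw [h1]
  rw [sum_comm (s := range (a + b))]
  apply sum_congr rfl
  intro i hi
  have hi' := mem_range.1 hi
  symm
  rw [← sum_filter]
  apply sum_nbij' (fun q => q - i) (fun j => i + j)
  · intro q hq
    simp only [mem_filter, mem_range] at hq ⊢
    exact hq.2.2
  · intro j hj
    simp only [mem_filter, mem_range] at hj ⊢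
    omega
  · intro q hq
    simp only [mem_filter, mem_range] at hq
    omega
  · intro j hj
    omega
  · intro q hq
    simp only [mem_filter, mem_range] at hq
    have : w * q = w * i + w * (q - i) := by rw [← mul_add]; congr 1; omega
    rw [this, pow_add]
    ring

theorem conv_le {f g : ℕ → ℕ} {a b q F G : ℕ} (hf : ∀ i < a, f i ≤ F) (hg : ∀ i < b, g i ≤ G) :
    conv f a g b q ≤ a * (F * G) := by
  unfold conv
  calc _ ≤ ∑ _i ∈ range a, F * G := by
        apply sum_le_sum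
        intro i hi
        split
        · rename_i h
          exact Nat.mul_le_mul (hf i (mem_range.1 hi)) (hg _ h.2)
        · exact Nat.zero_le _
    _ = a * (F * G) := by simp

/-- every `n`-th digit -/
theorem S_stride {f : ℕ → ℕ} {n k : ℕ} (hn : 0 < n) :
    S w (fun q => if n ∣ q then f q else 0) (n * k) = S (w * n) (fun j => f (n * j)) k := by
  induction k with
  | zero => simp
  | succ k ih =>
    rw [S_top, ← ih]
    have h1 : n * (k + 1) = n * k + n := by ring
    have h2 : S w (fun q => if n ∣ q then f q else 0) (n * k + 1) =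
        S w (fun q => if n ∣ q then f q else 0) (n * k) + f (n * k) * 2 ^ (w * n * k) := by
      rw [S_top, if_pos (Dvd.intro _ rfl), mul_assoc w n k]
    rw [h1, ← h2]
    apply S_ext (by omega)
    intro i h3 h4
    have : ¬ n ∣ i := by
      rintro ⟨c, rfl⟩
      have h5 : n * k < n * c := by omega
      have h6 : n * c < n * (k + 1) := by rw [h1]; exact h4
      have h7 := Nat.lt_of_mul_lt_mul_left h5
      have h8 := Nat.lt_of_mul_lt_mul_left h6
      omega
    simp [this]

/-- constant digits -/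
theorem S_const (c k : ℕ) (hw : 0 < w) : S w (fun _ => c) k = c * ((2 ^ (w * k) - 1) / (2 ^ w - 1)) := by
  have h1 : 2 ≤ 2 ^ w := by
    calc 2 = 2 ^ 1 := rfl
      _ ≤ 2 ^ w := Nat.pow_le_pow_right (by norm_num) hw
  rw [pow_mul, ← Nat.geomSum_eq h1]
  unfold S
  rw [mul_sum]
  exact sum_congr rfl fun i _ => by rw [pow_mul]

/-- gathering digits with spacing `w * n` -/
theorem S_gather {f : ℕ → ℕ} {n : ℕ} (hn : 2 ≤ n) (hw : 0 < w) (hf : ∀ i < n, f i + 1 < 2 ^ w) :
    S (w * n) f n % (2 ^ (w * n) - 2 ^ w) = S w f n := by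
  have hB : 2 ≤ 2 ^ w := by
    calc 2 = 2 ^ 1 := rfl
      _ ≤ 2 ^ w := Nat.pow_le_pow_right (by norm_num) hw
  have hlt : S w f n < 2 ^ (w * n) - 2 ^ w := by
    obtain ⟨m, rfl⟩ : ∃ m, n = m + 1 := ⟨n - 1, by omega⟩
    rw [S_top]
    have h1 : S w f m < 2 ^ (w * m) := S_lt fun i hi => by have := hf i (by omega); omega
    have h2 := hf m (by omega)
    have h3 : (f m + 2) * 2 ^ (w * m) ≤ 2 ^ w * 2 ^ (w * m) := Nat.mul_le_mul_right _ h2
    have h4 : 2 ^ (w * (m + 1)) = 2 ^ w * 2 ^ (w * m) := by rw [mul_add, mul_one, pow_add]; ring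
    have h5 : 2 ^ w ≤ 2 ^ (w * m) := Nat.pow_le_pow_right (by norm_num) (Nat.le_mul_of_pos_right _ (by omega))
    rw [add_mul] at h3
    omega
  have hle : 2 ^ w ≤ 2 ^ (w * n) := Nat.pow_le_pow_right (by norm_num) (Nat.le_mul_of_pos_right _ (by omega))
  have hmod : S (w * n) f n ≡ S w f n [MOD (2 ^ (w * n) - 2 ^ w)] := by
    unfold S
    have hb : 2 ^ (w * n) ≡ 2 ^ w [MOD (2 ^ (w * n) - 2 ^ w)] := by
      symm
      rw [Nat.modEq_iff_dvd' hle]
    have : ∀ s : Finset ℕ, (∑ i ∈ s, f i * 2 ^ (w * n * i)) ≡ (∑ i ∈ s, f i * 2 ^ (w * i))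
        [MOD (2 ^ (w * n) - 2 ^ w)] := by
      intro s
      induction s using Finset.induction_on with
      | empty => rfl
      | insert i s his ih =>
        rw [sum_insert his, sum_insert his]
        refine Nat.ModEq.add ?_ ih
        rw [pow_mul 2 (w * n) i, pow_mul 2 w i]
        exact Nat.ModEq.mul_left _ (hb.pow i)
    exact this _
  rw [hmod, Nat.mod_eq_of_lt hlt]

end Cfsg.Agent.KMat
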