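import Cfsg.Agent.KMat.PGrp

/-!
Orders of `p`-subgroups given by matrices: lower bounds (owner: helper66).
-/

set_option autoImplicit false

namespace Cfsg.Agent.KMat

open Cfsg.Agent.CosetEnum

section

variable {Γ : Type*} [Group Γ]

/-- test of a chain of `p`-groups with a list of relations -/
def pchB (rels : List (List ℕ × List ℕ)) (p : ℕ) : List ℕ → Bool
  | [] => true
  | x :: l => ((List.range 6).any fun k => rels.contains (List.replicate (p ^ k) x, [])) &&
      (l.all fun j => rels.any fun r => r.1 == [j, x] && match r.2 with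
        | y :: w => y == x && w.all (fun z => l.contains z)
        | [] => false) && pchB rels p l

theorem pchB_sound {U : ℕ → Γ} {rels : List (List ℕ × List ℕ)} {p : ℕ}
    (hr : ∀ r ∈ rels, (r.1.map U).prod = (r.2.map U).prod) {l : List ℕ} (h : pchB rels p l = true) : PCh U p l := by
  induction l with
  | nil => trivial
  | cons x l ih =>
    rw [pchB, Bool.and_eq_true, Bool.and_eq_true] at h
    obtain ⟨⟨h1, h2⟩, h3⟩ := h
    refine ⟨?_, ?_, ih h3⟩
    · rw [List.any_eq_true] at h1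
      obtain ⟨k, _, hk⟩ := h1
      refine ⟨k, ?_⟩
      have := hr _ (by simpa using hk)
      simpa using this
    · intro j hj
      have h4 := (List.all_eq_true.1 h2) j hj
      rw [List.any_eq_true] at h4
      obtain ⟨r, hrm, h5⟩ := h4
      obtain ⟨r1, r2⟩ := r
      rw [Bool.and_eq_true] at h5
      obtain ⟨h6, h7⟩ := h5
      have h6' : r1 = [j, x] := by simpa using h6
      subst h6'
      rcases r2 with _ | ⟨y, w⟩
      · simp at h7
      · simp only [Bool.and_eq_true, beq_iff_eq] at h7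
        obtain ⟨rfl, h8⟩ := h7
        refine ⟨w, ?_, ?_⟩
        · intro z hz
          have := (List.all_eq_true.1 h8) z hz
          simpa using this
        · have := hr _ hrm
          simpa using this

end

/-- words from `pws` have their letters in the list -/
theorem pws_mem {p : ℕ} {l : List ℕ} {w : List ℕ} (h : w ∈ pws p l) : ∀ x ∈ w, x ∈ l := by
  induction l generalizing w with
  | nil =>
    rw [pws, List.mem_singleton] at h
    subst h
    simp
  | cons y l ih =>
    rw [pws, List.mem_flatMap] at h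
    obtain ⟨e, _, he⟩ := h
    rw [List.mem_map] at he
    obtain ⟨u, hu, rfl⟩ := he
    intro x hx
    rw [List.mem_append, List.mem_replicate] at hx
    rcases hx with ⟨_, rfl⟩ | hx
    · simp
    · exact List.mem_cons_of_mem _ (ih hu x hx)

theorem pws_length (p : ℕ) (l : List ℕ) : (pws p l).length = p ^ l.length := by
  induction l with
  | nil => rfl
  | cons y l ih =>
    rw [pws, List.length_flatMap]
    simp only [List.length_map, ih]
    rw [List.map_const', List.sum_replicate, List.length_range, List.length_cons, pow_succ, smul_eq_mul, mul_comm]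

section

variable {P : Pm} {ms : ℕ → ℕ} {lets : List ℕ} {U : ℕ → (Matrix (Fin P.n) (Fin P.n) (ZMod P.p))ˣ} (F : Fam P ms lets U)

include F

theorem Fam.fix_word {l : List ℕ} (hl : ∀ x ∈ l, x ∈ lets) {v : ℕ} (hv : Vec P v)
    (h : ∀ x ∈ l, walk P ms [x] v = v) {u : List ℕ} (hu : ∀ x ∈ u, x ∈ l) :
    Matrix.vecMul (dec P v) (((u.map U).prod : (Matrix (Fin P.n) (Fin P.n) (ZMod P.p))ˣ) : Matrix (Fin P.n) (Fin P.n) (ZMod P.p)) =
      dec P v := by
  induction u with
  | nil => simp
  | cons x u ih =>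
    have h1 := ih (fun y hy => hu y (by simp [hy]))
    have hx := hu x (by simp)
    have h2 := (F.walk_eq (u := [x]) (u' := []) (fun y hy => by
      rw [List.mem_singleton] at hy
      subst hy
      exact hl _ hx) (by simp) hv).1 (h x hx)
    simp only [List.map_cons, List.map_nil, List.prod_cons, List.prod_nil, mul_one, Units.val_one, Matrix.vecMul_one] at h2
    rw [List.map_cons, List.prod_cons, Units.val_mul, ← Matrix.vecMul_vecMul, h2, h1]

/-- lower bound for the order of a group of matrices -/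
theorem Fam.card_ge {p : ℕ} {l0 l1 : List ℕ} (h0 : ∀ x ∈ l0, x ∈ lets) (h1 : ∀ x ∈ l1, x ∈ lets) {v b : ℕ}
    (hv : Vec P v) (hb : Vec P b) (hfix : ∀ x ∈ l0, walk P ms [x] v = v) (hd1 : dstB P ms v (pws p l1) = true)
    (hd0 : dstB P ms b (pws p l0) = true) {Q : Subgroup (Matrix (Fin P.n) (Fin P.n) (ZMod P.p))ˣ}
    (hQ0 : ∀ x ∈ l0, U x ∈ Q) (hQ1 : ∀ x ∈ l1, U x ∈ Q) (hfin : Finite Q) :
    p ^ (l0.length + l1.length) ≤ Nat.card Q := by
  classical
  have hn1 := dstB_sound hd1
  have hn0 := dstB_sound hd0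
  have hW : ∀ (l : List ℕ), (∀ x ∈ l, x ∈ lets) → ∀ w ∈ pws p l, ∀ x ∈ w, x ∈ lets := fun l hl w hw x hx =>
    hl x (pws_mem hw x hx)
  let f : List ℕ × List ℕ → Q := fun q =>
    if h : (∀ x ∈ q.1, x ∈ l0) ∧ ∀ x ∈ q.2, x ∈ l1 then
      ⟨(q.1.map U).prod * (q.2.map U).prod, mul_mem (list_prod_mem (by
        intro y hy
        rw [List.mem_map] at hy
        obtain ⟨x, hx, rfl⟩ := hy
        exact hQ0 x (h.1 x hx))) (list_prod_mem (by
        intro y hy
        rw [List.mem_map] at hy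
        obtain ⟨x, hx, rfl⟩ := hy
        exact hQ1 x (h.2 x hx)))⟩
    else 1
  have hf : ∀ s ∈ pws p l0, ∀ w ∈ pws p l1, ((f (s, w) : Q) : (Matrix (Fin P.n) (Fin P.n) (ZMod P.p))ˣ) =
      (s.map U).prod * (w.map U).prod := by
    intro s hs w hw
    have : (∀ x ∈ (s, w).1, x ∈ l0) ∧ ∀ x ∈ (s, w).2, x ∈ l1 := ⟨fun x hx => pws_mem hs x hx, fun x hx => pws_mem hw x hx⟩
    simp only [f]
    rw [dif_pos this]
  have hinj : ∀ q ∈ (pws p l0) ×ˢ (pws p l1), ∀ q' ∈ (pws p l0) ×ˢ (pws p l1), f q = f q' → q = q' := by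
    rintro ⟨s, w⟩ hq ⟨s', w'⟩ hq' he
    rw [List.mem_product] at hq hq'
    obtain ⟨hs, hw⟩ := hq
    obtain ⟨hs', hw'⟩ := hq'
    have h2 := congrArg (fun z : Q => (z : (Matrix (Fin P.n) (Fin P.n) (ZMod P.p))ˣ)) he
    simp only [hf s hs w hw, hf s' hs' w' hw'] at h2
    have h3 := congrArg (fun M : (Matrix (Fin P.n) (Fin P.n) (ZMod P.p))ˣ =>
      Matrix.vecMul (dec P v) (M : Matrix (Fin P.n) (Fin P.n) (ZMod P.p))) h2
    simp only [Units.val_mul, ← Matrix.vecMul_vecMul, F.fix_word h0 hv hfix (fun x hx => pws_mem hs x hx),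
      F.fix_word h0 hv hfix (fun x hx => pws_mem hs' x hx)] at h3
    have h4 : walk P ms w v = walk P ms w' v := (F.walk_eq (hW _ h1 _ hw) (hW _ h1 _ hw') hv).2 h3
    have h5 : w = w' := List.inj_on_of_nodup_map hn1 hw hw' h4
    subst h5
    have h6 : (s.map U).prod = (s'.map U).prod := mul_right_cancel h2
    have h7 : walk P ms s b = walk P ms s' b := (F.walk_eq (hW _ h0 _ hs) (hW _ h0 _ hs') hb).2 (by rw [h6])
    have h8 : s = s' := List.inj_on_of_nodup_map hn0 hs hs' h7
    rw [h8]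
  have hnd : ((pws p l0) ×ˢ (pws p l1)).Nodup := List.Nodup.product (List.Nodup.of_map _ hn0) (List.Nodup.of_map _ hn1)
  have hnd2 : (((pws p l0) ×ˢ (pws p l1)).map f).Nodup := List.Nodup.map_on hinj hnd
  have hlen : (((pws p l0) ×ˢ (pws p l1)).map f).length = p ^ (l0.length + l1.length) := by
    rw [List.length_map, List.length_product, pws_length, pws_length, pow_add]
  have := Fintype.ofFinite Q
  rw [← hlen, ← List.toFinset_card_of_nodup hnd2, Nat.card_eq_fintype_card]
  exact Finset.card_le_univ _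

/-- a `p`-subgroup of order at least `p ^ n` gives a divisor -/
theorem Fam.dvd {p : ℕ} [Fact p.Prime] {l0 l1 : List ℕ} (h0 : ∀ x ∈ l0, x ∈ lets) (h1 : ∀ x ∈ l1, x ∈ lets) {v b : ℕ}
    (hv : Vec P v) (hb : Vec P b) (hfix : ∀ x ∈ l0, walk P ms [x] v = v) (hd1 : dstB P ms v (pws p l1) = true)
    (hd0 : dstB P ms b (pws p l0) = true) (hch : PCh U p ((l0 ++ l1).reverse))
    {R : Subgroup (Matrix (Fin P.n) (Fin P.n) (ZMod P.p))ˣ} (hR0 : ∀ x ∈ l0, U x ∈ R) (hR1 : ∀ x ∈ l1, U x ∈ R)
    (hfin : Finite R) : p ^ (l0.length + l1.length) ∣ Nat.card R := by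
  set Q : Subgroup (Matrix (Fin P.n) (Fin P.n) (ZMod P.p))ˣ := Subgroup.closure (U '' {x | x ∈ (l0 ++ l1).reverse}) with hQ
  have hle : Q ≤ R := by
    rw [hQ, Subgroup.closure_le]
    rintro _ ⟨x, hx, rfl⟩
    have hx' : x ∈ l0 ∨ x ∈ l1 := by
      have h2 : x ∈ (l0 ++ l1).reverse := hx
      rwa [List.mem_reverse, List.mem_append] at h2
    rcases hx' with hx' | hx'
    · exact hR0 x hx'
    · exact hR1 x hx'
  have hfQ : Finite Q := Finite.of_injective (Subgroup.inclusion hle) (Subgroup.inclusion_injective hle)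
  have hQp : IsPGroup p Q := hch.isPGroup (Fact.out : p.Prime).pos
  have hge := F.card_ge h0 h1 hv hb hfix hd1 hd0 (Q := Q) (fun x hx => Subgroup.subset_closure ⟨x, by simp [hx], rfl⟩)
    (fun x hx => Subgroup.subset_closure ⟨x, by simp [hx], rfl⟩) hfQ
  obtain ⟨m, hm⟩ := IsPGroup.iff_card.1 hQp
  rw [hm] at hge
  have hm2 : l0.length + l1.length ≤ m := (Nat.pow_le_pow_iff_right (Fact.out : p.Prime).one_lt).1 hge
  exact (pow_dvd_pow p hm2).trans (hm ▸ Subgroup.card_dvd_of_le hle)

/-- a `p`-subgroup of order at least `p ^ n` gives a divisor -/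
theorem Fam.dvd' {p : ℕ} [Fact p.Prime] {prs rels : List (List ℕ × List ℕ)} (hc : Cov (prB P ms prs) 0 P.n)
    (hsub : ∀ r ∈ rels, r ∈ prs) (hl : rels.all (fun r => r.1.all (fun x => lets.contains x) &&
      r.2.all (fun x => lets.contains x)) = true) {l0 l1 : List ℕ} (h0 : l0.all (fun x => lets.contains x) = true)
    (h1 : l1.all (fun x => lets.contains x) = true) {v b : ℕ}
    (hv : Vec P v) (hb : Vec P b) (hfix : l0.all (fun x => Nat.beq (walk P ms [x] v) v) = true)
    (hd1 : dstB P ms v (pws p l1) = true)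
    (hd0 : dstB P ms b (pws p l0) = true) (hch : pchB rels p ((l0 ++ l1).reverse) = true)
    {R : Subgroup (Matrix (Fin P.n) (Fin P.n) (ZMod P.p))ˣ} (hR : ∀ x ∈ l0 ++ l1, U x ∈ R)
    (hfin : Finite R) {m : ℕ} (hm : l0.length + l1.length = m) : p ^ m ∣ Nat.card R := by
  subst hm
  have mem : ∀ {l : List ℕ}, l.all (fun x => lets.contains x) = true → ∀ x ∈ l, x ∈ lets := fun h x hx => by
    simpa using (List.all_eq_true.1 h) x hx
  refine F.dvd (mem h0) (mem h1) hv hb (fun x hx => beq_true ((List.all_eq_true.1 hfix) x hx)) hd1 hd0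
    (pchB_sound (fun r hr => ?_) hch) (fun x hx => hR x (List.mem_append_left _ hx))
    (fun x hx => hR x (List.mem_append_right _ hx)) hfin
  have h2 := (List.all_eq_true.1 hl) r hr
  rw [Bool.and_eq_true] at h2
  exact F.rel hc (hsub r hr) (mem h2.1) (mem h2.2)

end

end Cfsg.Agent.KMat
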