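import Cfsg.Agent.KMat.Rep

/-!
Orders of `p`-subgroups given by matrices (owner: helper66).
-/

set_option autoImplicit false

namespace Cfsg.Agent.KMat

open Cfsg.Agent.CosetEnum

local notation "sel(" c ", " a ", " b ")" => @Bool.rec (fun _ => Bool) b a c

/-- assembling a matrix from its columns -/
noncomputable def asm (k : ℕ) (l : List ℕ) : ℕ := @List.rec ℕ (fun _ => ℕ) 0 (fun c _ ih => Nat.add c (Nat.shiftLeft ih k)) l

/-- a member of a list of matrices -/
noncomputable def selM (l : List ℕ) : ℕ → ℕ :=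
  @List.rec ℕ (fun _ => ℕ → ℕ) (fun _ => 0) (fun m _ ih x => @Nat.rec (fun _ => ℕ) m (fun k _ => ih k) x) l

/-- test of matrices -/
noncomputable def matB (P : Pm) (ms : ℕ → ℕ) (lets : List ℕ) : Bool :=
  @List.rec ℕ (fun _ => Bool) true (fun x _ ih =>
    sel(Nat.ble (Nat.succ (ms x)) (Nat.pow 2 (Nat.mul P.w (Nat.mul P.n P.n))),
      sel(Nat.beq (Nat.land (ms x) P.hi) 0, ih, false), false)) lets

theorem matB_sound {P : Pm} {ms : ℕ → ℕ} {lets : List ℕ} (h : matB P ms lets = true) : ∀ x ∈ lets, MatOK P (ms x) := by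
  induction lets with
  | nil => intro x hx; simp at hx
  | cons y lets ih =>
    obtain ⟨h1, h2⟩ := sel_true_left (show @Bool.rec (fun _ => Bool) false
      (sel(Nat.beq (Nat.land (ms y) P.hi) 0, matB P ms lets, false))
      (Nat.ble (Nat.succ (ms y)) (Nat.pow 2 (Nat.mul P.w (Nat.mul P.n P.n)))) = true from h)
    obtain ⟨h3, h4⟩ := sel_true_left h2
    intro x hx
    rcases List.mem_cons.1 hx with rfl | hx
    · exact ⟨ble_true h1, beq_true h3⟩
    · exact ih h4 x hx

/-- units with given matrices -/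
structure Fam (P : Pm) (ms : ℕ → ℕ) (lets : List ℕ) (U : ℕ → (Matrix (Fin P.n) (Fin P.n) (ZMod P.p))ˣ) : Prop where
  ok : P.OK
  p1 : 1 < P.p
  mok : ∀ x ∈ lets, MatOK P (ms x)
  val : ∀ x ∈ lets, ((U x : (Matrix (Fin P.n) (Fin P.n) (ZMod P.p))ˣ) : Matrix (Fin P.n) (Fin P.n) (ZMod P.p)) = mat P (ms x)

section

variable {P : Pm} {ms : ℕ → ℕ} {lets : List ℕ} {U : ℕ → (Matrix (Fin P.n) (Fin P.n) (ZMod P.p))ˣ} (F : Fam P ms lets U)

include F

theorem Fam.word {u : List ℕ} (hu : ∀ x ∈ u, x ∈ lets) : (((u.map U).prod :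
    (Matrix (Fin P.n) (Fin P.n) (ZMod P.p))ˣ) : Matrix (Fin P.n) (Fin P.n) (ZMod P.p)) = wm P ms u := by
  induction u with
  | nil => simp [wm]
  | cons x u ih =>
    rw [List.map_cons, List.prod_cons, Units.val_mul, ih (fun y hy => hu y (by simp [hy])), F.val x (hu x (by simp)),
      wm, wm, List.map_cons, List.prod_cons]

theorem Fam.rel {prs : List (List ℕ × List ℕ)} (hc : Cov (prB P ms prs) 0 P.n) {p : List ℕ × List ℕ}
    (hp : p ∈ prs) (h1 : ∀ x ∈ p.1, x ∈ lets) (h2 : ∀ x ∈ p.2, x ∈ lets) :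
    (p.1.map U).prod = (p.2.map U).prod := by
  apply Units.ext
  rw [F.word h1, F.word h2]
  exact wm_eq F.ok F.p1 hc hp (fun x hx => F.mok x (h1 x hx)) (fun x hx => F.mok x (h2 x hx))

/-- vectors and words -/
theorem Fam.walk_eq {u u' : List ℕ} (h1 : ∀ x ∈ u, x ∈ lets) (h2 : ∀ x ∈ u', x ∈ lets) {v : ℕ} (hv : Vec P v) :
    walk P ms u v = walk P ms u' v ↔
      Matrix.vecMul (dec P v) (((u.map U).prod : (Matrix (Fin P.n) (Fin P.n) (ZMod P.p))ˣ) : Matrix (Fin P.n) (Fin P.n) (ZMod P.p)) =
        Matrix.vecMul (dec P v) (((u'.map U).prod : (Matrix (Fin P.n) (Fin P.n) (ZMod P.p))ˣ) : Matrix (Fin P.n) (Fin P.n) (ZMod P.p)) := by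
  have h5 := walk_sound F.ok (fun x hx => F.mok x (h1 x hx)) hv
  have h6 := walk_sound F.ok (fun x hx => F.mok x (h2 x hx)) hv
  rw [F.word h1, F.word h2, ← h5.2, ← h6.2]
  exact ⟨fun h => by rw [h], fun h => dec_inj F.ok h5.1 h6.1 h⟩

end

/-- words: products of powers of letters with exponents below `p` -/
def pws (p : ℕ) : List ℕ → List (List ℕ)
  | [] => [[]]
  | x :: l => (List.range p).flatMap fun e => (pws p l).map fun u => List.replicate e x ++ u

/-- no equal members -/
noncomputable def ndB (l : List ℕ) : Bool :=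
  @List.rec ℕ (fun _ => Bool) true (fun x l ih =>
    sel(@List.rec ℕ (fun _ => Bool) false (fun y _ ih' => sel(Nat.beq x y, true, ih')) l, false, ih)) l

theorem ndB_sound {l : List ℕ} (h : ndB l = true) : l.Nodup := by
  induction l with
  | nil => simp
  | cons x l ih =>
    have h' : @Bool.rec (fun _ => Bool) (ndB l) false
        (@List.rec ℕ (fun _ => Bool) false (fun y _ ih' => sel(Nat.beq x y, true, ih')) l) = true := h
    have h1 : (@List.rec ℕ (fun _ => Bool) false (fun y _ ih' => sel(Nat.beq x y, true, ih')) l) = false := by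
      rcases hb : (@List.rec ℕ (fun _ => Bool) false (fun y _ ih' => sel(Nat.beq x y, true, ih')) l) with _ | _
      · rfl
      · rw [hb] at h'
        exact absurd h' (by simp)
    rw [h1] at h'
    refine List.nodup_cons.2 ⟨?_, ih h'⟩
    clear h h' ih
    induction l with
    | nil => simp
    | cons y l ih =>
      have h2 : @Bool.rec (fun _ => Bool) (@List.rec ℕ (fun _ => Bool) false (fun y _ ih' => sel(Nat.beq x y, true, ih')) l)
          true (Nat.beq x y) = false := h1
      rcases hb : Nat.beq x y with _ | _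
      · rw [hb] at h2
        have h3 : x ≠ y := fun h => by subst h; simp at hb
        simp only [List.mem_cons, not_or]
        exact ⟨h3, ih h2⟩
      · rw [hb] at h2
        exact absurd h2 (by simp)

/-- the images of a vector under words are distinct -/
noncomputable def dstB (P : Pm) (ms : ℕ → ℕ) (v : ℕ) (ws : List (List ℕ)) : Bool :=
  @List.rec (List ℕ) (fun _ => List ℕ → Bool) ndB
    (fun u _ ih acc => force (walk P ms u v) fun x => ih (x :: acc)) ws []

theorem dstB_sound {P : Pm} {ms : ℕ → ℕ} {v : ℕ} {ws : List (List ℕ)} (h : dstB P ms v ws = true) :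
    (ws.map fun u => walk P ms u v).Nodup := by
  have key : ∀ (ws : List (List ℕ)) (acc : List ℕ), (@List.rec (List ℕ) (fun _ => List ℕ → Bool) ndB
      (fun u _ ih acc => force (walk P ms u v) fun x => ih (x :: acc)) ws acc) = true →
      (((ws.map fun u => walk P ms u v).reverse) ++ acc).Nodup := by
    intro ws
    induction ws with
    | nil => intro acc h; simpa using ndB_sound h
    | cons u ws ih =>
      intro acc h
      simp only [force_eq] at h ih
      have := ih _ h
      simpa using this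
  have := key ws [] h
  rw [List.append_nil, List.nodup_reverse] at this
  exact this

section

variable {Γ : Type*} [Group Γ]

/-- normalising by a `p`-element -/
theorem isPGroup_step {p : ℕ} {A : Set Γ} (hP : IsPGroup p (Subgroup.closure A)) {y : Γ}
    {k : ℕ} (hy : y ^ p ^ k = 1) (hp : 0 < p) (hn : ∀ s ∈ A, y⁻¹ * s * y ∈ Subgroup.closure A) :
    IsPGroup p (Subgroup.closure (insert y A)) := by
  have h1 : ∀ h ∈ Subgroup.closure A, y⁻¹ * h * y ∈ Subgroup.closure A := by
    intro h hh
    induction hh using Subgroup.closure_induction with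
    | mem s hs => exact hn s hs
    | one => rw [mul_one, inv_mul_cancel]; exact Subgroup.one_mem _
    | mul a b _ _ ha hb =>
      have : y⁻¹ * (a * b) * y = y⁻¹ * a * y * (y⁻¹ * b * y) := by group
      rw [this]
      exact Subgroup.mul_mem _ ha hb
    | inv a _ ha =>
      have : y⁻¹ * a⁻¹ * y = (y⁻¹ * a * y)⁻¹ := by group
      rw [this]
      exact Subgroup.inv_mem _ ha
  have h2 : ∀ n : ℕ, ∀ h ∈ Subgroup.closure A, (y ^ n)⁻¹ * h * y ^ n ∈ Subgroup.closure A := by
    intro n
    induction n with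
    | zero => intro h hh; simpa using hh
    | succ n ih =>
      intro h hh
      have h3 := ih _ (h1 h hh)
      have : (y ^ (n + 1))⁻¹ * h * y ^ (n + 1) = (y ^ n)⁻¹ * (y⁻¹ * h * y) * y ^ n := by
        rw [pow_succ']
        group
      rwa [this]
  have h4 : y ∈ Subgroup.normalizer (Subgroup.closure A : Set Γ) := by
    rw [Subgroup.mem_normalizer_iff]
    intro h
    have h5 : y ^ (p ^ k - 1) = y⁻¹ := by
      rw [eq_inv_iff_mul_eq_one, ← pow_succ, Nat.sub_add_cancel (Nat.pos_of_ne_zero (by positivity))]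
      exact hy
    constructor
    · intro hh
      have := h2 (p ^ k - 1) h hh
      rwa [h5, inv_inv] at this
    · intro hh
      have := h1 _ hh
      have h6 : y⁻¹ * (y * h * y⁻¹) * y = h := by group
      rwa [h6] at this
  have h5 : IsPGroup p (Subgroup.zpowers y) := by
    rintro ⟨z, hz⟩
    obtain ⟨m, rfl⟩ := Subgroup.mem_zpowers_iff.1 hz
    refine ⟨k, ?_⟩
    apply Subtype.ext
    show (y ^ m) ^ p ^ k = 1
    rw [← zpow_natCast, ← zpow_mul, mul_comm, zpow_mul, zpow_natCast, hy, one_zpow]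
  have h6 : Subgroup.closure (insert y A) = Subgroup.zpowers y ⊔ Subgroup.closure A := by
    rw [Set.insert_eq, Subgroup.closure_union, Subgroup.zpowers_eq_closure]
  rw [h6]
  exact IsPGroup.to_sup_of_normal_right' h5 hP (by rwa [Subgroup.zpowers_le])

/-- a chain of `p`-groups: every letter normalises the group of the letters before -/
def PCh (U : ℕ → Γ) (p : ℕ) : List ℕ → Prop
  | [] => True
  | x :: l => (∃ k, U x ^ p ^ k = 1) ∧ (∀ j ∈ l, ∃ w : List ℕ, (∀ y ∈ w, y ∈ l) ∧ U j * U x = U x * (w.map U).prod) ∧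
      PCh U p l

theorem PCh.isPGroup {U : ℕ → Γ} {p : ℕ} (hp : 0 < p) {l : List ℕ} (h : PCh U p l) :
    IsPGroup p (Subgroup.closure (U '' {x | x ∈ l})) := by
  induction l with
  | nil =>
    have : U '' {x | x ∈ ([] : List ℕ)} = ∅ := by simp
    rw [this, Subgroup.closure_empty]
    exact IsPGroup.of_bot
  | cons x l ih =>
    obtain ⟨⟨k, h1⟩, h2, h3⟩ := h
    have h4 : U '' {y | y ∈ x :: l} = insert (U x) (U '' {y | y ∈ l}) := by
      ext z
      simp [eq_comm]
    rw [h4]
    refine isPGroup_step (ih h3) h1 hp ?_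
    rintro _ ⟨j, hj, rfl⟩
    obtain ⟨w, hw, he⟩ := h2 j hj
    rw [mul_assoc, he, inv_mul_cancel_left]
    exact word_mem U _ fun y hy => Subgroup.subset_closure ⟨y, hw y hy, rfl⟩

end

end Cfsg.Agent.KMat
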