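import Cfsg.Agent.KMat.Vec
import Cfsg.Agent.CosetEnum.Rep

/-!
Matrix representations of groups checked by the kernel (owner: helper66).
-/

set_option autoImplicit false

namespace Cfsg.Agent.KMat

open Cfsg.Agent.CosetEnum

local notation "sel(" c ", " a ", " b ")" => @Bool.rec (fun _ => Bool) b a c

/-- image of a vector under a word, first letter first -/
noncomputable def walk (P : Pm) (ms : ℕ → ℕ) (u : List ℕ) : ℕ → ℕ :=
  @List.rec ℕ (fun _ => ℕ → ℕ) (fun v => v) (fun x _ ih v => forceN (vmul P (ms x) v) ih) u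

theorem walk_nil (P : Pm) (ms : ℕ → ℕ) (v : ℕ) : walk P ms [] v = v := rfl

theorem walk_cons (P : Pm) (ms : ℕ → ℕ) (x : ℕ) (u : List ℕ) (v : ℕ) :
    walk P ms (x :: u) v = walk P ms u (vmul P (ms x) v) := by
  show forceN (vmul P (ms x) v) (walk P ms u) = _
  rw [forceN_eq]

/-- the matrix of a word -/
noncomputable def wm (P : Pm) (ms : ℕ → ℕ) (u : List ℕ) : Matrix (Fin P.n) (Fin P.n) (ZMod P.p) :=
  (u.map fun x => mat P (ms x)).prod

theorem walk_sound {P : Pm} (hP : P.OK) {ms : ℕ → ℕ} {u : List ℕ} (hu : ∀ x ∈ u, MatOK P (ms x)) {v : ℕ}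
    (hv : Vec P v) : Vec P (walk P ms u v) ∧ dec P (walk P ms u v) = Matrix.vecMul (dec P v) (wm P ms u) := by
  induction u generalizing v with
  | nil => exact ⟨hv, by simp [walk_nil, wm]⟩
  | cons x u ih =>
    have h1 := hu x (by simp)
    obtain ⟨h2, h3⟩ := ih (fun y hy => hu y (by simp [hy])) (hv.vmul hP h1)
    rw [walk_cons]
    refine ⟨h2, ?_⟩
    rw [h3, dec_vmul hP h1 hv, Matrix.vecMul_vecMul, wm, wm, List.map_cons, List.prod_cons]

/-- the words of each pair have the same image of the `i`-th basis vector -/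
noncomputable def prB (P : Pm) (ms : ℕ → ℕ) (prs : List (List ℕ × List ℕ)) (i : ℕ) : Bool :=
  force (Nat.pow 2 (Nat.mul P.w i)) fun e =>
    @List.rec (List ℕ × List ℕ) (fun _ => Bool) true
      (fun p _ ih => sel(Nat.beq (walk P ms p.1 e) (walk P ms p.2 e), ih, false)) prs

theorem prB_sound {P : Pm} {ms : ℕ → ℕ} {prs : List (List ℕ × List ℕ)} {i : ℕ} (h : prB P ms prs i = true) :
    ∀ p ∈ prs, walk P ms p.1 (2 ^ (P.w * i)) = walk P ms p.2 (2 ^ (P.w * i)) := by
  unfold prB at h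
  rw [force_eq] at h
  induction prs with
  | nil => intro p hp; simp at hp
  | cons q prs ih =>
    obtain ⟨h3, h4⟩ := sel_true_left (show @Bool.rec (fun _ => Bool) false (@List.rec (List ℕ × List ℕ) (fun _ => Bool) true
      (fun p _ ih => sel(Nat.beq (walk P ms p.1 (Nat.pow 2 (Nat.mul P.w i))) (walk P ms p.2 (Nat.pow 2 (Nat.mul P.w i))),
        ih, false)) prs) (Nat.beq (walk P ms q.1 (Nat.pow 2 (Nat.mul P.w i)))
        (walk P ms q.2 (Nat.pow 2 (Nat.mul P.w i)))) = true from h)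
    intro p hp
    rcases List.mem_cons.1 hp with rfl | hp
    · exact beq_true h3
    · exact ih h4 p hp

/-- words that agree on the basis vectors have the same matrix -/
theorem wm_eq {P : Pm} (hP : P.OK) (hp : 1 < P.p) {ms : ℕ → ℕ} {prs : List (List ℕ × List ℕ)}
    (hc : Cov (prB P ms prs) 0 P.n) {p : List ℕ × List ℕ} (hprs : p ∈ prs) (h1 : ∀ x ∈ p.1, MatOK P (ms x))
    (h2 : ∀ x ∈ p.2, MatOK P (ms x)) : wm P ms p.1 = wm P ms p.2 := by
  ext i j
  have h3 := prB_sound (hc i (Nat.zero_le _) i.2) p hprs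
  have h4 := (walk_sound hP h1 (basis_vec hp i.2)).2
  have h5 := (walk_sound hP h2 (basis_vec hp i.2)).2
  rw [h3, h5, dec_basis hP hp] at h4
  have h6 := congrFun h4 j
  rw [Matrix.single_one_vecMul, Matrix.single_one_vecMul] at h6
  exact h6.symm

/-- matrices for the letters, with their tests -/
structure RepOK (P : Pm) (ms : ℕ → ℕ) (ng : ℕ) (l : List (ℕ × ℕ)) (lets : List ℕ) (RL : List (List ℕ × ℕ)) : Prop where
  ok : P.OK
  p1 : 1 < P.p
  st : letsB ng l lets RL = true
  mok : ∀ x ∈ lets, MatOK P (ms x)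
  cov : Cov (prB P ms ((lets.map fun x => ([x, ivL l x], [])) ++ RL.map fun p => (expand p, []))) 0 P.n

section

variable {P : Pm} {ms : ℕ → ℕ} {ng : ℕ} {l : List (ℕ × ℕ)} {lets : List ℕ} {RL : List (List ℕ × ℕ)}
  (T : RepOK P ms ng l lets RL)

include T

theorem RepOK.mem_iff {x : ℕ} : x ∈ lets ↔ isLet ng x = true := by
  have h := T.st
  simp only [letsB, Bool.and_eq_true, List.all_eq_true] at h
  obtain ⟨⟨⟨h1, h2⟩, h3⟩, h4⟩ := h
  constructor
  · exact fun hx => (h1 x hx).1.1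
  · intro hx
    have h5 := h2 x (by rw [List.mem_range]; have := isLet_iff.1 hx; omega)
    simpa [hx] using h5

theorem RepOK.iv : ∀ x ∈ lets, ivL l x ∈ lets ∧ ivL l (ivL l x) = x := by
  have h := T.st
  simp only [letsB, Bool.and_eq_true, List.all_eq_true] at h
  obtain ⟨⟨⟨h1, h2⟩, h3⟩, h4⟩ := h
  intro x hx
  obtain ⟨⟨h5, h6⟩, h7⟩ := h1 x hx
  exact ⟨T.mem_iff.2 h6, by simpa using h7⟩

theorem RepOK.mul_inv {x : ℕ} (hx : x ∈ lets) : mat P (ms x) * mat P (ms (ivL l x)) = 1 := by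
  have h := wm_eq T.ok T.p1 T.cov (p := ([x, ivL l x], [])) (by
    rw [List.mem_append]; exact Or.inl (List.mem_map.2 ⟨x, hx, rfl⟩)) (by
    intro y hy
    simp only [List.mem_cons, List.not_mem_nil, or_false] at hy
    rcases hy with rfl | rfl
    · exact T.mok _ hx
    · exact T.mok _ (T.iv x hx).1) (by simp)
  simpa [wm] using h

open Classical in
/-- the units -/
noncomputable def RepOK.gm (T : RepOK P ms ng l lets RL) (x : ℕ) : (Matrix (Fin P.n) (Fin P.n) (ZMod P.p))ˣ :=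
  if hx : x ∈ lets then
    ⟨mat P (ms x), mat P (ms (ivL l x)), T.mul_inv hx, by
      have := T.mul_inv (T.iv x hx).1
      rwa [(T.iv x hx).2] at this⟩
  else 1

theorem RepOK.gm_val {x : ℕ} (hx : x ∈ lets) : ((T.gm x : (Matrix (Fin P.n) (Fin P.n) (ZMod P.p))ˣ) :
    Matrix (Fin P.n) (Fin P.n) (ZMod P.p)) = mat P (ms x) := by
  rw [RepOK.gm, dif_pos hx]

theorem RepOK.gm_word {u : List ℕ} (hu : ∀ x ∈ u, x ∈ lets) : (((u.map T.gm).prod :
    (Matrix (Fin P.n) (Fin P.n) (ZMod P.p))ˣ) : Matrix (Fin P.n) (Fin P.n) (ZMod P.p)) = wm P ms u := by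
  induction u with
  | nil => simp [wm]
  | cons x u ih =>
    rw [List.map_cons, List.prod_cons, Units.val_mul, ih (fun y hy => hu y (by simp [hy])), T.gm_val (hu x (by simp)),
      wm, wm, List.map_cons, List.prod_cons]

theorem RepOK.good : Good T.gm ng l RL := by
  have h := T.st
  simp only [letsB, Bool.and_eq_true, List.all_eq_true] at h
  obtain ⟨⟨⟨h1, h2⟩, h3⟩, h4⟩ := h
  constructor
  · intro x
    by_cases hx : x ∈ lets
    · have h5 := (T.iv x hx)
      rw [eq_inv_iff_mul_eq_one]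
      apply Units.ext
      rw [Units.val_mul, T.gm_val h5.1, T.gm_val hx, Units.val_one]
      have := T.mul_inv h5.1
      rwa [h5.2] at this
    · have h5 : ivL l x = x := ivL_of_not h3 (fun h => hx (T.mem_iff.2 h))
      rw [h5, RepOK.gm, dif_neg hx]
      simp
  · intro x hx
    have : x ∉ lets := fun h => by rw [T.mem_iff.1 h] at hx; exact absurd hx (by simp)
    rw [RepOK.gm, dif_neg this]
  · intro p hp
    have h5 := h4 p hp
    simp only [wOK, List.all_eq_true] at h5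
    have hu : ∀ x ∈ p.1, x ∈ lets := fun x hx => T.mem_iff.2 (h5 x hx)
    rw [← prod_expand]
    have hu' : ∀ x ∈ expand p, x ∈ lets := by
      intro x hx
      simp only [expand, List.mem_flatten, List.mem_replicate] at hx
      obtain ⟨u, ⟨_, rfl⟩, hx⟩ := hx
      exact hu x hx
    apply Units.ext
    rw [T.gm_word hu']
    have h6 := wm_eq T.ok T.p1 T.cov (p := (expand p, [])) (by
      rw [List.mem_append]; exact Or.inr (List.mem_map.2 ⟨p, hp, rfl⟩)) (fun x hx => T.mok x (hu' x hx)) (by simp)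
    rw [h6]
    simp [wm]

/-- a relation between letters -/
theorem RepOK.rel {prs : List (List ℕ × List ℕ)} (hc : Cov (prB P ms prs) 0 P.n) {p : List ℕ × List ℕ}
    (hp : p ∈ prs) (h1 : ∀ x ∈ p.1, x ∈ lets) (h2 : ∀ x ∈ p.2, x ∈ lets) :
    (p.1.map T.gm).prod = (p.2.map T.gm).prod := by
  apply Units.ext
  rw [T.gm_word h1, T.gm_word h2]
  exact wm_eq T.ok T.p1 hc hp (fun x hx => T.mok x (h1 x hx)) (fun x hx => T.mok x (h2 x hx))

/-- a word that moves a vector -/
theorem RepOK.ne {u u' : List ℕ} (h1 : ∀ x ∈ u, x ∈ lets) (h2 : ∀ x ∈ u', x ∈ lets) {v : ℕ} (hv : Vec P v)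
    (h : Nat.beq (walk P ms u v) (walk P ms u' v) = false) : (u.map T.gm).prod ≠ (u'.map T.gm).prod := by
  intro h3
  have h4 := congrArg Units.val h3
  rw [T.gm_word h1, T.gm_word h2] at h4
  have h5 := walk_sound T.ok (fun x hx => T.mok x (h1 x hx)) hv
  have h6 := walk_sound T.ok (fun x hx => T.mok x (h2 x hx)) hv
  have h7 : dec P (walk P ms u v) = dec P (walk P ms u' v) := by rw [h5.2, h6.2, h4]
  have h8 := dec_inj T.ok h5.1 h6.1 h7
  rw [h8] at h
  simp at h

end

end Cfsg.Agent.KMat
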