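import Cfsg.Agent.KMat.Dig

/-!
Vector times matrix over `ZMod p` by one multiplication of packed numbers (owner: helper66).

Vectors: `n` digits of `w` bits.  Matrices: `n * n` digits, the entry `(i, j)` is the digit `n * j + n - 1 - i`.
-/

set_option autoImplicit false

namespace Cfsg.Agent.KMat

open Finset

structure Pm where
  n : ℕ
  w : ℕ
  p : ℕ
  mb : ℕ
  md : ℕ
  sh : ℕ
  msk : ℕ
  gm : ℕ
  hi : ℕ
  red : ℕ → ℕ

/-- vector times matrix -/
noncomputable def vmul (P : Pm) (M v : ℕ) : ℕ :=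
  P.red (Nat.mod (Nat.land (Nat.shiftRight (Nat.mul v M) P.sh) P.msk) P.gm)

structure Pm.OK (P : Pm) : Prop where
  n2 : 2 ≤ P.n
  w0 : 0 < P.w
  p0 : 0 < P.p
  pw : P.p ≤ 2 ^ P.w
  hmd : P.md < 2 ^ P.w
  hsh : P.sh = P.w * (P.n - 1)
  hmsk : P.msk = S (P.w * P.n) (fun _ => P.md) P.n
  hgm : P.gm = 2 ^ (P.w * P.n) - 2 ^ P.w
  hmb : P.mb ≤ P.w
  hhi : P.hi = S P.w (fun _ => 2 ^ P.w - 2 ^ P.mb) (P.n * P.n)
  hbd : P.n * ((P.p - 1) * (2 ^ P.mb - 1)) + 1 < 2 ^ P.w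
  hred : ∀ d : ℕ → ℕ, (∀ i < P.n, d i + 1 < 2 ^ P.w) →
    P.red (S P.w (fun i => d i &&& P.md) P.n) = S P.w (fun i => d i % P.p) P.n

/-- a valid matrix -/
def MatOK (P : Pm) (M : ℕ) : Prop := M < 2 ^ (P.w * (P.n * P.n)) ∧ Nat.land M P.hi = 0

theorem lt_of_and {w mb x : ℕ} (hm : mb ≤ w) (hx : x < 2 ^ w) (h : x &&& (2 ^ w - 2 ^ mb) = 0) : x < 2 ^ mb := by
  apply Nat.lt_pow_two_of_testBit
  intro i hi
  by_contra h1
  simp only [Bool.not_eq_false] at h1
  have h2 : i < w := by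
    by_contra h3
    have := Nat.testBit_lt_two_pow (lt_of_lt_of_le hx (Nat.pow_le_pow_right (by norm_num) (not_lt.1 h3)))
    rw [this] at h1
    exact Bool.noConfusion h1
  have h3 : (2 ^ w - 2 ^ mb).testBit i = true := by
    have : 2 ^ w - 2 ^ mb = 2 ^ mb * (2 ^ (w - mb) - 1) := by
      rw [Nat.mul_sub, ← pow_add, mul_one, Nat.add_sub_cancel' hm]
    rw [this, Nat.testBit_two_pow_mul, Nat.testBit_two_pow_sub_one]
    simp only [Bool.and_eq_true, decide_eq_true_eq]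
    omega
  have h4 : (x &&& (2 ^ w - 2 ^ mb)).testBit i = true := by
    rw [Nat.testBit_and, h1, h3]; rfl
  rw [h] at h4
  simp at h4

theorem MatOK.dig_lt {P : Pm} (hP : P.OK) {M : ℕ} (h : MatOK P M) {q : ℕ} (hq : q < P.n * P.n) :
    dig P.w M q < 2 ^ P.mb := by
  obtain ⟨h1, h2⟩ := h
  have h3 : M &&& P.hi = 0 := h2
  rw [← S_of_lt h1, hP.hhi, S_and (fun i _ => KMat.dig_lt _ _)
    (fun i _ => Nat.sub_lt (by positivity) (by positivity))] at h3
  have h4 : S P.w (fun i => dig P.w M i &&& (2 ^ P.w - 2 ^ P.mb)) (P.n * P.n) = S P.w (fun _ => 0) (P.n * P.n) := by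
    rw [h3]
    unfold S
    simp
  have h5 := S_inj (fun i _ => lt_of_le_of_lt Nat.and_le_left (KMat.dig_lt _ _)) (fun i _ => by positivity) h4 q hq
  exact lt_of_and hP.hmb (KMat.dig_lt _ _) h5

/-- coordinates of the product -/
def pc (P : Pm) (M : ℕ) (a : ℕ → ℕ) (j : ℕ) : ℕ := ∑ i ∈ range P.n, a i * dig P.w M (P.n * j + P.n - 1 - i)

theorem vmul_S {P : Pm} (hP : P.OK) {M : ℕ} (hM : MatOK P M) {a : ℕ → ℕ} (ha : ∀ i < P.n, a i < P.p) :
    vmul P M (S P.w a P.n) = S P.w (fun j => pc P M a j % P.p) P.n := by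
  have hn := hP.n2
  have hconv : ∀ q, conv a P.n (dig P.w M) (P.n * P.n) q + 1 < 2 ^ P.w := fun q =>
    lt_of_le_of_lt (Nat.succ_le_succ (conv_le (F := P.p - 1) (G := 2 ^ P.mb - 1)
      (fun i hi => by have := ha i hi; omega)
      (fun i hi => by have := hM.dig_lt hP hi; omega))) hP.hbd
  set c := conv a P.n (dig P.w M) (P.n * P.n) with hc
  have h1 : S P.w a P.n * M = S P.w c (P.n + P.n * P.n) := by
    conv_lhs => rw [← S_of_lt hM.1]
    rw [S_conv]
  have h2 : (S P.w a P.n * M) >>> P.sh = S P.w (fun i => c (i + (P.n - 1))) (P.n * P.n + 1) := by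
    rw [Nat.shiftRight_eq_div_pow, h1, hP.hsh, S_shift (fun i _ => by have := hconv i; omega) (by omega)]
    congr 1
    omega
  have h3 : P.msk = S P.w (fun q => if q < P.n * P.n ∧ P.n ∣ q then P.md else 0) (P.n * P.n + 1) := by
    rw [S_ext (k := P.n * P.n) (by omega) (fun i h4 h5 => by simp; omega), hP.hmsk,
      ← S_stride (f := fun _ => P.md) (by omega)]
    exact S_congr fun i hi => by simp [hi]
  have h4 : ((S P.w a P.n * M) >>> P.sh) &&& P.msk = S (P.w * P.n) (fun j => c (P.n * j + (P.n - 1)) &&& P.md) P.n := by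
    rw [h2, h3, S_and (fun i _ => by have := hconv (i + (P.n - 1)); omega)
      (fun i _ => by split; exacts [hP.hmd, by positivity])]
    rw [S_ext (k := P.n * P.n) (by omega) (fun i h4 h5 => by
      rw [if_neg (by omega), Nat.and_zero])]
    rw [← S_stride (f := fun q => c (q + (P.n - 1)) &&& P.md) (by omega)]
    apply S_congr
    intro i hi
    by_cases h6 : P.n ∣ i
    · simp [hi, h6]
    · simp [h6]
  have h5 : ∀ j, (c (P.n * j + (P.n - 1)) &&& P.md) + 1 < 2 ^ P.w := fun j =>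
    lt_of_le_of_lt (Nat.succ_le_succ Nat.and_le_left) (hconv _)
  show P.red ((((S P.w a P.n * M) >>> P.sh) &&& P.msk) % P.gm) = _
  rw [h4, hP.hgm, S_gather hn hP.w0 (fun i _ => h5 i), hP.hred _ (fun i _ => hconv _)]
  apply S_congr
  intro j hj
  show c (P.n * j + (P.n - 1)) % P.p = pc P M a j % P.p
  congr 1
  rw [hc]
  unfold conv pc
  apply sum_congr rfl
  intro i hi
  have hi' := mem_range.1 hi
  have h6 : P.n * j + (P.n - 1) - i = P.n * j + P.n - 1 - i := by omega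
  have h7 : P.n * j + P.n ≤ P.n * P.n := by
    calc P.n * j + P.n = P.n * (j + 1) := by ring
      _ ≤ P.n * P.n := Nat.mul_le_mul_left _ hj
  rw [if_pos ⟨by omega, by omega⟩, h6]

/-- vectors -/
def Vec (P : Pm) (v : ℕ) : Prop := ∃ a : ℕ → ℕ, (∀ i < P.n, a i < P.p) ∧ v = S P.w a P.n

/-- the vector of a packed number -/
def dec (P : Pm) (v : ℕ) : Fin P.n → ZMod P.p := fun i => (dig P.w v i : ZMod P.p)

/-- the matrix of a packed number -/
def mat (P : Pm) (M : ℕ) : Matrix (Fin P.n) (Fin P.n) (ZMod P.p) :=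
  fun i j => (dig P.w M (P.n * j + P.n - 1 - i) : ZMod P.p)

theorem dec_S {P : Pm} (hP : P.OK) {a : ℕ → ℕ} (ha : ∀ i < P.n, a i < P.p) (i : Fin P.n) :
    dec P (S P.w a P.n) i = (a i : ZMod P.p) := by
  unfold dec
  rw [dig_S (fun i hi => lt_of_lt_of_le (ha i hi) hP.pw) i.2]

theorem Vec.vmul {P : Pm} (hP : P.OK) {M v : ℕ} (hM : MatOK P M) (hv : Vec P v) : Vec P (vmul P M v) := by
  obtain ⟨a, ha, rfl⟩ := hv
  rw [vmul_S hP hM ha]
  exact ⟨_, fun i _ => Nat.mod_lt _ hP.p0, rfl⟩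

theorem dec_vmul {P : Pm} (hP : P.OK) {M v : ℕ} (hM : MatOK P M) (hv : Vec P v) :
    dec P (KMat.vmul P M v) = Matrix.vecMul (dec P v) (mat P M) := by
  obtain ⟨a, ha, rfl⟩ := hv
  rw [vmul_S hP hM ha]
  ext j
  rw [dec_S hP (fun i _ => Nat.mod_lt _ hP.p0), ZMod.natCast_mod]
  simp only [Matrix.vecMul, dotProduct, mat]
  unfold pc
  rw [Nat.cast_sum, ← Fin.sum_univ_eq_sum_range (fun i => ((a i * dig P.w M (P.n * j + P.n - 1 - i) : ℕ) : ZMod P.p))]
  apply sum_congr rfl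
  intro i _
  rw [dec_S hP ha, Nat.cast_mul]

theorem dec_inj {P : Pm} (hP : P.OK) {u v : ℕ} (hu : Vec P u) (hv : Vec P v) (h : dec P u = dec P v) : u = v := by
  obtain ⟨a, ha, rfl⟩ := hu
  obtain ⟨b, hb, rfl⟩ := hv
  apply S_congr
  intro i hi
  have := congrFun h ⟨i, hi⟩
  rw [dec_S hP ha, dec_S hP hb] at this
  have h1 := congrArg ZMod.val this
  rwa [ZMod.val_natCast, ZMod.val_natCast, Nat.mod_eq_of_lt (ha i hi), Nat.mod_eq_of_lt (hb i hi)] at h1

/-- the basis vectors -/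
theorem vec_basis {P : Pm} {i : ℕ} (hi : i < P.n) :
    2 ^ (P.w * i) = S P.w (fun j => if j = i then 1 else 0) P.n := by
  unfold S
  simp only [ite_mul, one_mul, zero_mul]
  rw [sum_ite_eq' (range P.n) i, if_pos (mem_range.2 hi)]

theorem basis_vec {P : Pm} (hp : 1 < P.p) {i : ℕ} (hi : i < P.n) : Vec P (2 ^ (P.w * i)) :=
  ⟨_, fun j _ => by
    show (if j = i then 1 else 0) < P.p
    split <;> omega, vec_basis hi⟩

theorem dec_basis {P : Pm} (hP : P.OK) (hp : 1 < P.p) (i : Fin P.n) : dec P (2 ^ (P.w * i)) = Pi.single i 1 := by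
  rw [vec_basis i.2]
  ext j
  rw [dec_S hP (fun j _ => by show (if j = (i : ℕ) then 1 else 0) < P.p; split <;> omega)]
  by_cases h : j = i
  · subst h; simp
  · have : (j : ℕ) ≠ i := fun h' => h (Fin.ext h')
    simp [this, h]

/-- Parameters for the field with two elements. -/
noncomputable def pm2 (n w : ℕ) : Pm where
  n := n
  w := w
  p := 2
  mb := 1
  md := 1
  sh := Nat.mul w (Nat.sub n 1)
  msk := Nat.div (Nat.sub (Nat.pow 2 (Nat.mul (Nat.mul w n) n)) 1) (Nat.sub (Nat.pow 2 (Nat.mul w n)) 1)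
  gm := Nat.sub (Nat.pow 2 (Nat.mul w n)) (Nat.pow 2 w)
  hi := Nat.mul (Nat.sub (Nat.pow 2 w) 2) (Nat.div (Nat.sub (Nat.pow 2 (Nat.mul w (Nat.mul n n))) 1) (Nat.sub (Nat.pow 2 w) 1))
  red := fun x => x

theorem pm2_ok {n w : ℕ} (hn : 2 ≤ n) (hw : n + 1 < 2 ^ w) : (pm2 n w).OK := by
  have hw0 : 0 < w := by
    rcases Nat.eq_zero_or_pos w with rfl | h
    · simp at hw
    · exact h
  have hw1 : 2 ≤ 2 ^ w := by omega
  refine ⟨hn, hw0, by norm_num [pm2], hw1, ?_, rfl, ?_, rfl, hw0, ?_, ?_, ?_⟩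
  · show 1 < 2 ^ w
    omega
  · show _ = S (w * n) (fun _ => 1) n
    rw [S_const _ _ (by positivity), one_mul]
    rfl
  · show _ = S w (fun _ => 2 ^ w - 2 ^ 1) (n * n)
    rw [S_const _ _ hw0]
    rfl
  · show n * ((2 - 1) * (2 ^ 1 - 1)) + 1 < 2 ^ w
    omega
  · intro d _
    show S w (fun i => d i &&& 1) n = S w (fun i => d i % 2) n
    simp only [Nat.and_one_is_mod]

/-- reduction of all digits modulo `p`: `c` and `s` with `c * x / 2 ^ s = x / p` -/
noncomputable def redP (w p c s me mq u : ℕ) : ℕ :=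
  Nat.sub u (Nat.mul p (Nat.add
    (Nat.shiftRight (Nat.land (Nat.mul c (Nat.land u me)) mq) s)
    (Nat.shiftLeft (Nat.shiftRight (Nat.land (Nat.mul c (Nat.land (Nat.shiftRight u w) me)) mq) s) w)))

theorem S_pair {w : ℕ} (f : ℕ → ℕ) (m : ℕ) : S w f (2 * m) = S (2 * w) (fun k => f (2 * k) + 2 ^ w * f (2 * k + 1)) m := by
  induction m with
  | zero => rfl
  | succ m ih =>
    rw [show 2 * (m + 1) = 2 * m + 1 + 1 by ring, S_top, S_top, S_top, ih]
    have h1 : w * (2 * m + 1) = w * (2 * m) + w := by ring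
    have h2 : 2 * w * m = w * (2 * m) := by ring
    rw [h1, h2, pow_add]
    ring

theorem redP_S {w p c s me mq m : ℕ} (hw : 0 < w) (hs : s ≤ 2 * w) (hme : me = S (2 * w) (fun _ => 2 ^ w - 1) m)
    (hmq : mq = S (2 * w) (fun _ => 2 ^ (2 * w) - 2 ^ s) m) (hc : ∀ x < 2 ^ w, c * x < 2 ^ (2 * w) ∧ c * x / 2 ^ s = x / p)
    {d : ℕ → ℕ} (hd : ∀ i, d i < 2 ^ w) (hd0 : ∀ i, 2 * m ≤ i → d i = 0) :
    redP w p c s me mq (S w d (2 * m)) = S w (fun i => d i % p) (2 * m) := by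
  have key : ∀ e : ℕ → ℕ, (∀ i, e i < 2 ^ w) →
      ((c * ((S w e (2 * m)) &&& me)) &&& mq) >>> s = S (2 * w) (fun k => e (2 * k) / p) m := by
    intro e he
    have h1 : S w e (2 * m) &&& me = S (2 * w) (fun k => e (2 * k)) m := by
      rw [S_pair, hme, S_and]
      · apply S_congr
        intro k _
        rw [Nat.and_two_pow_sub_one_eq_mod, Nat.add_mul_mod_self_left, Nat.mod_eq_of_lt (he _)]
      · intro k _
        have h2 := he (2 * k)
        have h3 := he (2 * k + 1)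
        have h4 : 2 ^ w * (e (2 * k + 1) + 1) ≤ 2 ^ w * 2 ^ w := Nat.mul_le_mul_left _ h3
        rw [mul_add, mul_one, ← pow_add, ← two_mul] at h4
        omega
      · intro k _
        have : 2 ^ w ≤ 2 ^ (2 * w) := Nat.pow_le_pow_right (by norm_num) (by omega)
        have h5 : 0 < 2 ^ w := by positivity
        omega
    rw [h1, S_mul, hmq, S_and (fun k _ => (hc _ (he _)).1) (fun k _ => Nat.sub_lt (by positivity) (by positivity))]
    have h6 : ∀ x < 2 ^ (2 * w), x &&& (2 ^ (2 * w) - 2 ^ s) = 2 ^ s * (x / 2 ^ s) := by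
      intro x hx
      apply Nat.eq_of_testBit_eq
      intro i
      have h7 : 2 ^ (2 * w) - 2 ^ s = 2 ^ s * (2 ^ (2 * w - s) - 1) := by
        rw [Nat.mul_sub, ← pow_add, mul_one, Nat.add_sub_cancel' hs]
      rw [Nat.testBit_and, h7, Nat.testBit_two_pow_mul, Nat.testBit_two_pow_mul, Nat.testBit_two_pow_sub_one,
        Nat.testBit_div_two_pow]
      by_cases h8 : s ≤ i
      · by_cases h9 : i < 2 * w
        · have h10 : i - s < 2 * w - s := by omega
          simp [h8, h10]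
        · have h11 : x.testBit i = false :=
            Nat.testBit_lt_two_pow (lt_of_lt_of_le hx (Nat.pow_le_pow_right (by norm_num) (by omega)))
          simp [h8, h11]
      · simp [h8]
    have h7 : S (2 * w) (fun i => c * e (2 * i) &&& (2 ^ (2 * w) - 2 ^ s)) m =
        2 ^ s * S (2 * w) (fun k => e (2 * k) / p) m := by
      rw [S_mul]
      apply S_congr
      intro k _
      rw [h6 _ (hc _ (he _)).1, (hc _ (he _)).2]
    rw [h7, Nat.shiftRight_eq_div_pow, Nat.mul_div_cancel_left _ (by positivity)]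
  have hsh : S w d (2 * m) >>> w = S w (fun i => d (i + 1)) (2 * m) := by
    rcases Nat.eq_zero_or_pos m with rfl | hm
    · simp
    · obtain ⟨k, hk⟩ : ∃ k, 2 * m = k + 1 := ⟨2 * m - 1, by omega⟩
      rw [hk, Nat.shiftRight_eq_div_pow, S_div (hd 0)]
      rw [S_top, hd0 (k + 1) (by omega), zero_mul, add_zero]
  have h1 := key d hd
  have h2 := key (fun i => d (i + 1)) (fun i => hd _)
  rw [← hsh] at h2
  show S w d (2 * m) - p * ((((c * (S w d (2 * m) &&& me)) &&& mq) >>> s) +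
    ((((c * ((S w d (2 * m) >>> w) &&& me)) &&& mq) >>> s) <<< w)) = _
  rw [h1, h2, Nat.shiftLeft_eq]
  have h3 : S (2 * w) (fun k => d (2 * k) / p) m + S (2 * w) (fun k => d (2 * k + 1) / p) m * 2 ^ w =
      S w (fun i => d i / p) (2 * m) := by
    rw [S_pair, mul_comm _ (2 ^ w), S_mul, S_add]
  rw [h3, S_mul, S_sub (fun i _ => Nat.mul_div_le _ _)]
  apply S_congr
  intro i _
  have := Nat.div_add_mod (d i) p
  omega

/-- Parameters for odd `p`. -/
noncomputable def pmP (n w p mb c s m : ℕ) : Pm where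
  n := n
  w := w
  p := p
  mb := mb
  md := Nat.sub (Nat.pow 2 w) 1
  sh := Nat.mul w (Nat.sub n 1)
  msk := Nat.mul (Nat.sub (Nat.pow 2 w) 1)
    (Nat.div (Nat.sub (Nat.pow 2 (Nat.mul (Nat.mul w n) n)) 1) (Nat.sub (Nat.pow 2 (Nat.mul w n)) 1))
  gm := Nat.sub (Nat.pow 2 (Nat.mul w n)) (Nat.pow 2 w)
  hi := Nat.mul (Nat.sub (Nat.pow 2 w) (Nat.pow 2 mb))
    (Nat.div (Nat.sub (Nat.pow 2 (Nat.mul w (Nat.mul n n))) 1) (Nat.sub (Nat.pow 2 w) 1))
  red := redP w p c s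
    (Nat.mul (Nat.sub (Nat.pow 2 w) 1)
      (Nat.div (Nat.sub (Nat.pow 2 (Nat.mul (Nat.mul 2 w) m)) 1) (Nat.sub (Nat.pow 2 (Nat.mul 2 w)) 1)))
    (Nat.mul (Nat.sub (Nat.pow 2 (Nat.mul 2 w)) (Nat.pow 2 s))
      (Nat.div (Nat.sub (Nat.pow 2 (Nat.mul (Nat.mul 2 w) m)) 1) (Nat.sub (Nat.pow 2 (Nat.mul 2 w)) 1)))

theorem pmP_ok {n w p mb c s m : ℕ} (hn : 2 ≤ n) (hw : 0 < w) (hp : 0 < p) (hpw : p ≤ 2 ^ w) (hmb : mb ≤ w)
    (hbd : n * ((p - 1) * (2 ^ mb - 1)) + 1 < 2 ^ w) (hs : s ≤ 2 * w) (hm : n ≤ 2 * m)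
    (hc : ∀ x < 2 ^ w, c * x < 2 ^ (2 * w) ∧ c * x / 2 ^ s = x / p) : (pmP n w p mb c s m).OK := by
  refine ⟨hn, hw, hp, hpw, ?_, rfl, ?_, rfl, hmb, ?_, hbd, ?_⟩
  · show 2 ^ w - 1 < 2 ^ w
    have : 0 < 2 ^ w := by positivity
    omega
  · show _ = S (w * n) (fun _ => 2 ^ w - 1) n
    rw [S_const _ _ (by positivity)]
    rfl
  · show _ = S w (fun _ => 2 ^ w - 2 ^ mb) (n * n)
    rw [S_const _ _ hw]
    rfl
  · intro d hd
    show redP w p c s _ _ (S w (fun i => d i &&& (2 ^ w - 1)) n) = S w (fun i => d i % p) n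
    have h1 : S w (fun i => d i &&& (2 ^ w - 1)) n = S w (fun i => if i < n then d i else 0) (2 * m) := by
      rw [S_ext hm (fun i h1 h2 => by simp; omega)]
      apply S_congr
      intro i hi
      rw [if_pos hi, Nat.and_two_pow_sub_one_eq_mod, Nat.mod_eq_of_lt]
      have h2 : d i + 1 < 2 ^ w := hd i hi
      omega
    rw [h1, redP_S hw hs (m := m) ?_ ?_ hc]
    · rw [S_ext hm (fun i h1 h2 => by rw [if_neg (by omega)]; simp)]
      exact S_congr fun i hi => by rw [if_pos hi]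
    · intro i
      split
      · rename_i h
        have h2 : d i + 1 < 2 ^ w := hd i h
        omega
      · positivity
    · intro i hi
      rw [if_neg (by omega)]
    · rw [S_const _ _ (by positivity)]
      rfl
    · rw [S_const _ _ (by positivity)]
      rfl

end Cfsg.Agent.KMat
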